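import Cfsg.Agent.Lib.Cert.Mat
import Cfsg.Agent.Lib.Cert.Out

set_option autoImplicit false
set_option maxRecDepth 100000

namespace Cfsg.Agent.Ct.M12o

open Cfsg.Agent.PC

open Cfsg.Agent.Fi Cfsg.Agent.Ct
def W_t : TL := (TL.node (TL.node (TL.node (TL.node (TL.leaf [nat_lit 2, nat_lit 1, nat_lit 3, nat_lit 3, nat_lit 3, nat_lit 0, nat_lit 0, nat_lit 0, nat_lit 3, nat_lit 3, nat_lit 3, nat_lit 4, nat_lit 5, nat_lit 5, nat_lit 5, nat_lit 5, nat_lit 5, nat_lit 5, nat_lit 5]) (TL.leaf [nat_lit 1, nat_lit 2, nat_lit 0, nat_lit 0, nat_lit 0, nat_lit 1, nat_lit 1, nat_lit 1, nat_lit 5, nat_lit 5, nat_lit 5, nat_lit 5, nat_lit 5, nat_lit 5, nat_lit 5, nat_lit 2, nat_lit 2, nat_lit 2, nat_lit 1, nat_lit 3, nat_lit 4, nat_lit 4, nat_lit 4, nat_lit 4, nat_lit 4, nat_lit 4, nat_lit 4, nat_lit 4, nat_lit 4, nat_lit 4, nat_lit 5])) (TL.node (TL.leaf [nat_lit 1, nat_lit 3, nat_lit 4, nat_lit 5, nat_lit 5, nat_lit 5, nat_lit 5, nat_lit 5, nat_lit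 5, nat_lit 5, nat_lit 5, nat_lit 5, nat_lit 5, nat_lit 5, nat_lit 5, nat_lit 5, nat_lit 5, nat_lit 4, nat_lit 4, nat_lit 4, nat_lit 4, nat_lit 4, nat_lit 4, nat_lit 4, nat_lit 4, nat_lit 4, nat_lit 4, nat_lit 1, nat_lit 1, nat_lit 1, nat_lit 4, nat_lit 0]) (TL.leaf [nat_lit 4, nat_lit 1, nat_lit 1, nat_lit 1, nat_lit 2, nat_lit 0]))) (TL.node (TL.node (TL.leaf [nat_lit 2, nat_lit 1, nat_lit 3, nat_lit 3, nat_lit 3, nat_lit 0, nat_lit 0, nat_lit 0, nat_lit 4, nat_lit 5, nat_lit 5, nat_lit 5, nat_lit 5, nat_lit 5, nat_lit 5, nat_lit 5, nat_lit 3, nat_lit 0, nat_lit 0, nat_lit 5, nat_lit 0]) (TL.leaf [nat_lit 5, nat_lit 5, nat_lit 5, nat_lit 5, nat_lit 5, nat_lit 5, nat_lit 5, nat_lit 4, nat_lit 1, nat_lit 2, nat_lit 0, nat_lit 4, nat_lit 4, nat_lit 4, nat_lit 4, nat_lit 4, nat_lit 4, nat_lit 4, nat_lit 4, nat_lit 4, nat_lit 4, nat_lit 1, nat_lit 1, nat_lit 1, nat_lit 5, nat_lit 5, nat_lit 5, nat_lit 5, nat_lit 5, nat_lit 5, nat_lit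 5])) (TL.leaf [nat_lit 3, nat_lit 3, nat_lit 3, nat_lit 5, nat_lit 4, nat_lit 4, nat_lit 4, nat_lit 4, nat_lit 4, nat_lit 4, nat_lit 4, nat_lit 4, nat_lit 4, nat_lit 4, nat_lit 1, nat_lit 2, nat_lit 1, nat_lit 1, nat_lit 1, nat_lit 4, nat_lit 4, nat_lit 4, nat_lit 4, nat_lit 4, nat_lit 4, nat_lit 4, nat_lit 4, nat_lit 4, nat_lit 4, nat_lit 3, nat_lit 3, nat_lit 3, nat_lit 5, nat_lit 0, nat_lit 0, nat_lit 0]))) (TL.node (TL.node (TL.node (TL.leaf [nat_lit 0, nat_lit 3, nat_lit 1, nat_lit 1, nat_lit 1, nat_lit 5, nat_lit 2, nat_lit 1, nat_lit 4, nat_lit 4]) (TL.leaf [nat_lit 5, nat_lit 2, nat_lit 1, nat_lit 1, nat_lit 1, nat_lit 0, nat_lit 1, nat_lit 2, nat_lit 4, nat_lit 5])) (TL.node (TL.leaf [nat_lit 4, nat_lit 5, nat_lit 5, nat_lit 5, nat_lit 5, nat_lit 5, nat_lit 5, nat_lit 5, nat_lit 3, nat_lit 0, nat_lit 0, nat_lit 0, nat_lit 4, nat_lit 2, nat_lit 2, nat_lit 2, nat_lit 0, nat_lit 0, nat_lit 5]) (TL.leaf [nat_lit 3, nat_lit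 3, nat_lit 3, nat_lit 5, nat_lit 4, nat_lit 4, nat_lit 4, nat_lit 4, nat_lit 4, nat_lit 4, nat_lit 4, nat_lit 4, nat_lit 4, nat_lit 4, nat_lit 3, nat_lit 3, nat_lit 3, nat_lit 0, nat_lit 1, nat_lit 1, nat_lit 1, nat_lit 1, nat_lit 1, nat_lit 1, nat_lit 3]))) (TL.node (TL.node (TL.leaf [nat_lit 1, nat_lit 3, nat_lit 3, nat_lit 3, nat_lit 3, nat_lit 3, nat_lit 3, nat_lit 1, nat_lit 4, nat_lit 5, nat_lit 5, nat_lit 5, nat_lit 5, nat_lit 5, nat_lit 5, nat_lit 5, nat_lit 2, nat_lit 2, nat_lit 2]) (TL.leaf [])) (TL.leaf [nat_lit 0, nat_lit 5, nat_lit 0, nat_lit 0, nat_lit 0]))))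
noncomputable def W (i : ℕ) : List ℕ := TL.get W_t i
def Qf_t : TN := (TN.leaf (nat_lit 0xbbea58c272b2ccc729283b682010232d6cf9ca21a1c6c5a90970ae469a00bdab49ca307b9ac5a928398a4188207da3738940a2e4ca94249a5c643470a596f3b6a0b944c744c3991480c930b5cae988f27ac708d00da854822586b5cea9c16c7d10171444882a36c8c9bd6ca981f0895a25d068391c64b03279ef559ac38ce422d120511c88342c8bd47592e9b158d9d606a21d208062b1eea5b5f0a14029c532a91cc198283dab1282837adac72828b9a62811328bd57990e3ab9885d826a34a0849223d6d198290539065bd2dbb0a219032))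
noncomputable def Qf (i : ℕ) : ℕ := get9 Qf_t (nat_lit 5) (nat_lit 31) i
noncomputable def Q (j c : ℕ) : ℕ := Qf (Nat.add (Nat.mul j (nat_lit 24)) c)
def B : List ℕ := [nat_lit 17, nat_lit 1, nat_lit 16, nat_lit 14, nat_lit 12, nat_lit 0, nat_lit 23]
noncomputable def q (j : ℕ) : G12 := ev (sub G12 (Spor.fam Spor.c12)) (W j)
noncomputable def f0 : ℕ → ℕ := tabE (Spor.TP Spor.c12) Q W (nat_lit 14)
theorem a0 : Nat.beq (rng f0 (nat_lit 0) (nat_lit 24)) (nat_lit 0) = true := by decide +kernel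
theorem h0 : ∀ i < 24, f0 i = 0 := by
  have h := zero_lt_zero f0
  have h := zero_lt_add (a := (nat_lit 0)) (n := (nat_lit 24)) (b := (nat_lit 24)) h a0 rfl
  exact h
theorem md : Md Spor.gp 24 B q Q 14 := (md12).words (by decide +kernel) h0
def R_t1 : TL := (TL.node (TL.node (TL.node (TL.node (TL.node (TL.node (TL.leaf []) (TL.leaf [nat_lit 0])) (TL.leaf [nat_lit 0])) (TL.node (TL.node (TL.leaf [nat_lit 0]) (TL.leaf [nat_lit 0])) (TL.leaf [nat_lit 0]))) (TL.node (TL.node (TL.node (TL.leaf []) (TL.leaf [])) (TL.leaf [])) (TL.node (TL.node (TL.leaf []) (TL.leaf [])) (TL.leaf [])))) (TL.node (TL.node (TL.node (TL.node (TL.leaf []) (TL.leaf [])) (TL.leaf [])) (TL.node (TL.node (TL.leaf []) (TL.leaf [])) (TL.leaf []))) (TL.node (TL.node (TL.node (TL.leaf []) (TL.leaf [])) (TL.leaf [])) (TL.node (TL.node (TL.leaf []) (TL.leaf [])) (TL.leaf []))))) (TL.node (TL.node (TL.node (TL.node (TL.node (TL.leaf []) (TL.leaf [])) (TL.leaf []))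 (TL.node (TL.node (TL.leaf []) (TL.leaf [nat_lit 2, nat_lit 4])) (TL.leaf []))) (TL.node (TL.node (TL.node (TL.leaf []) (TL.leaf [])) (TL.leaf [])) (TL.node (TL.node (TL.leaf []) (TL.leaf [])) (TL.leaf [])))) (TL.node (TL.node (TL.node (TL.node (TL.leaf []) (TL.leaf [])) (TL.leaf [])) (TL.node (TL.node (TL.leaf []) (TL.leaf [])) (TL.leaf []))) (TL.node (TL.node (TL.node (TL.leaf []) (TL.leaf [])) (TL.leaf [])) (TL.node (TL.node (TL.leaf []) (TL.leaf [])) (TL.leaf []))))))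
def R_t2 : TL := (TL.node (TL.node (TL.node (TL.node (TL.node (TL.node (TL.leaf []) (TL.leaf [nat_lit 2])) (TL.leaf [])) (TL.node (TL.node (TL.leaf []) (TL.leaf [nat_lit 0, nat_lit 2])) (TL.leaf [nat_lit 0, nat_lit 2]))) (TL.node (TL.node (TL.node (TL.leaf []) (TL.leaf [])) (TL.leaf [])) (TL.node (TL.node (TL.leaf []) (TL.leaf [])) (TL.leaf [])))) (TL.node (TL.node (TL.node (TL.node (TL.leaf []) (TL.leaf [])) (TL.leaf [])) (TL.node (TL.node (TL.leaf []) (TL.leaf [])) (TL.leaf []))) (TL.node (TL.node (TL.node (TL.leaf []) (TL.leaf [])) (TL.leaf [])) (TL.node (TL.node (TL.leaf []) (TL.leaf [])) (TL.leaf []))))) (TL.node (TL.node (TL.node (TL.node (TL.node (TL.leaf []) (TL.leaf [])) (TL.leaf [])) (TL.node (TL.node (TL.leaf []) (TL.leaf [])) (TL.leaf []))) (TL.node (TL.node (TL.node (TL.leaf []) (TL.leaf [])) (TL.leaf [])) (TL.node (TL.node (TL.leaf []) (TL.leaf [])) (TL.leaf [])))) (TL.node (TL.node (TL.node (TL.node (TL.leaf [])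 (TL.leaf [])) (TL.leaf [])) (TL.node (TL.node (TL.leaf []) (TL.leaf [])) (TL.leaf []))) (TL.node (TL.node (TL.node (TL.leaf []) (TL.leaf [])) (TL.leaf [])) (TL.node (TL.node (TL.leaf []) (TL.leaf [])) (TL.leaf []))))))
def R_t3 : TL := (TL.node R_t1 R_t2)
def R_t4 : TL := (TL.node (TL.node (TL.node (TL.node (TL.node (TL.node (TL.leaf []) (TL.leaf [nat_lit 0, nat_lit 1])) (TL.leaf [nat_lit 1])) (TL.node (TL.node (TL.leaf [nat_lit 0]) (TL.leaf [nat_lit 0, nat_lit 1])) (TL.leaf [nat_lit 1]))) (TL.node (TL.node (TL.node (TL.leaf []) (TL.leaf [])) (TL.leaf [])) (TL.node (TL.node (TL.leaf []) (TL.leaf [])) (TL.leaf [])))) (TL.node (TL.node (TL.node (TL.node (TL.leaf []) (TL.leaf [])) (TL.leaf [])) (TL.node (TL.node (TL.leaf []) (TL.leaf [])) (TL.leaf []))) (TL.node (TL.node (TL.node (TL.leaf []) (TL.leaf [])) (TL.leaf [])) (TL.node (TL.node (TL.leaf []) (TL.leaf [])) (TL.leaf []))))) (TL.node (TL.node (TL.node (TL.node (TL.node (TL.leaf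 []) (TL.leaf [])) (TL.leaf [])) (TL.node (TL.node (TL.leaf []) (TL.leaf [nat_lit 0, nat_lit 1, nat_lit 2])) (TL.leaf []))) (TL.node (TL.node (TL.node (TL.leaf []) (TL.leaf [])) (TL.leaf [])) (TL.node (TL.node (TL.leaf []) (TL.leaf [])) (TL.leaf [])))) (TL.node (TL.node (TL.node (TL.node (TL.leaf []) (TL.leaf [])) (TL.leaf [])) (TL.node (TL.node (TL.leaf []) (TL.leaf [])) (TL.leaf []))) (TL.node (TL.node (TL.node (TL.leaf []) (TL.leaf [])) (TL.leaf [])) (TL.node (TL.node (TL.leaf []) (TL.leaf [])) (TL.leaf []))))))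
def R_t5 : TL := (TL.node (TL.node (TL.node (TL.node (TL.node (TL.node (TL.leaf []) (TL.leaf [nat_lit 3])) (TL.leaf [])) (TL.node (TL.node (TL.leaf []) (TL.leaf [nat_lit 0, nat_lit 1, nat_lit 2, nat_lit 3])) (TL.leaf [nat_lit 0]))) (TL.node (TL.node (TL.node (TL.leaf []) (TL.leaf [])) (TL.leaf [])) (TL.node (TL.node (TL.leaf []) (TL.leaf [])) (TL.leaf [])))) (TL.node (TL.node (TL.node (TL.node (TL.leaf []) (TL.leaf [])) (TL.leaf [])) (TL.node (TL.node (TL.leaf []) (TL.leaf [])) (TL.leaf []))) (TL.node (TL.node (TL.node (TL.leaf []) (TL.leaf [])) (TL.leaf [])) (TL.node (TL.node (TL.leaf []) (TL.leaf [])) (TL.leaf []))))) (TL.node (TL.node (TL.node (TL.node (TL.node (TL.leaf []) (TL.leaf [])) (TL.leaf [])) (TL.node (TL.node (TL.leaf []) (TL.leaf [])) (TL.leaf []))) (TL.node (TL.node (TL.node (TL.leaf []) (TL.leaf [])) (TL.leaf [])) (TL.node (TL.node (TL.leaf []) (TL.leaf [])) (TL.leaf [])))) (TL.node (TL.node (TL.node (TL.node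 (TL.leaf []) (TL.leaf [])) (TL.leaf [])) (TL.node (TL.node (TL.leaf []) (TL.leaf [])) (TL.leaf []))) (TL.node (TL.node (TL.node (TL.leaf []) (TL.leaf [])) (TL.leaf [])) (TL.node (TL.node (TL.leaf []) (TL.leaf [])) (TL.leaf []))))))
def R_t6 : TL := (TL.node R_t4 R_t5)
def R_t : TL := (TL.node R_t3 R_t6)
noncomputable def R (i : ℕ) : List ℕ := TL.get R_t i
def Zm (i : ℕ) : ℕ := Nat.land (Nat.shiftRight (nat_lit 0x40100000040200000000401000000400) (Nat.mul (nat_lit 2) i)) (nat_lit 3)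
def Zc (i : ℕ) : ℕ := Nat.land (Nat.shiftRight (nat_lit 0x6db6db4924922492492492492492492492494924926db900) (Nat.mul (nat_lit 3) i)) (nat_lit 7)
def U_t1 : TL := (TL.node (TL.node (TL.node (TL.node (TL.node (TL.node (TL.leaf [nat_lit 0]) (TL.leaf [nat_lit 0])) (TL.node (TL.leaf [nat_lit 0]) (TL.leaf [nat_lit 0]))) (TL.node (TL.node (TL.leaf [nat_lit 0]) (TL.leaf [nat_lit 0])) (TL.leaf [nat_lit 0]))) (TL.node (TL.node (TL.node (TL.leaf []) (TL.leaf [])) (TL.node (TL.leaf []) (TL.leaf []))) (TL.node (TL.node (TL.leaf []) (TL.leaf [])) (TL.leaf [])))) (TL.node (TL.node (TL.node (TL.node (TL.leaf []) (TL.leaf [])) (TL.node (TL.leaf []) (TL.leaf []))) (TL.node (TL.node (TL.leaf []) (TL.leaf [])) (TL.leaf []))) (TL.node (TL.node (TL.node (TL.leaf []) (TL.leaf [])) (TL.node (TL.leaf []) (TL.leaf []))) (TL.node (TL.node (TL.leaf []) (TL.leaf [])) (TL.leaf []))))) (TL.node (TL.node (TL.node (TL.node (TL.node (TL.leaf [nat_lit 4]) (TL.leaf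 [nat_lit 4])) (TL.node (TL.leaf [nat_lit 4]) (TL.leaf [nat_lit 1, nat_lit 3]))) (TL.node (TL.node (TL.leaf [nat_lit 0, nat_lit 4]) (TL.leaf [nat_lit 2, nat_lit 4])) (TL.leaf [nat_lit 4]))) (TL.node (TL.node (TL.node (TL.leaf []) (TL.leaf [])) (TL.node (TL.leaf []) (TL.leaf []))) (TL.node (TL.node (TL.leaf []) (TL.leaf [])) (TL.leaf [])))) (TL.node (TL.node (TL.node (TL.node (TL.leaf []) (TL.leaf [])) (TL.node (TL.leaf []) (TL.leaf []))) (TL.node (TL.node (TL.leaf []) (TL.leaf [])) (TL.leaf []))) (TL.node (TL.node (TL.node (TL.leaf []) (TL.leaf [])) (TL.node (TL.leaf []) (TL.leaf []))) (TL.node (TL.node (TL.leaf []) (TL.leaf [])) (TL.leaf []))))))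
def U_t2 : TL := (TL.node (TL.node (TL.node (TL.node (TL.node (TL.node (TL.leaf [nat_lit 2]) (TL.leaf [nat_lit 2])) (TL.node (TL.leaf [nat_lit 2]) (TL.leaf [nat_lit 1, nat_lit 2, nat_lit 4]))) (TL.node (TL.node (TL.leaf [nat_lit 2]) (TL.leaf [nat_lit 0, nat_lit 2])) (TL.leaf [nat_lit 0, nat_lit 2]))) (TL.node (TL.node (TL.node (TL.leaf []) (TL.leaf [])) (TL.node (TL.leaf []) (TL.leaf []))) (TL.node (TL.node (TL.leaf []) (TL.leaf [])) (TL.leaf [])))) (TL.node (TL.node (TL.node (TL.node (TL.leaf []) (TL.leaf [])) (TL.node (TL.leaf []) (TL.leaf []))) (TL.node (TL.node (TL.leaf []) (TL.leaf [])) (TL.leaf []))) (TL.node (TL.node (TL.node (TL.leaf []) (TL.leaf [])) (TL.node (TL.leaf []) (TL.leaf []))) (TL.node (TL.node (TL.leaf []) (TL.leaf [])) (TL.leaf []))))) (TL.node (TL.node (TL.node (TL.node (TL.node (TL.leaf []) (TL.leaf [])) (TL.node (TL.leaf []) (TL.leaf []))) (TL.node (TL.node (TL.leaf []) (TL.leaf [])) (TL.leaf []))) (TL.node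 (TL.node (TL.node (TL.leaf []) (TL.leaf [])) (TL.node (TL.leaf []) (TL.leaf []))) (TL.node (TL.node (TL.leaf []) (TL.leaf [])) (TL.leaf [])))) (TL.node (TL.node (TL.node (TL.node (TL.leaf []) (TL.leaf [])) (TL.node (TL.leaf []) (TL.leaf []))) (TL.node (TL.node (TL.leaf []) (TL.leaf [])) (TL.leaf []))) (TL.node (TL.node (TL.node (TL.leaf []) (TL.leaf [])) (TL.node (TL.leaf []) (TL.leaf []))) (TL.node (TL.node (TL.leaf []) (TL.leaf [])) (TL.leaf []))))))
def U_t3 : TL := (TL.node U_t1 U_t2)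
def U_t4 : TL := (TL.node (TL.node (TL.node (TL.node (TL.node (TL.node (TL.leaf [nat_lit 1]) (TL.leaf [nat_lit 0, nat_lit 1])) (TL.node (TL.leaf [nat_lit 1]) (TL.leaf [nat_lit 3, nat_lit 4]))) (TL.node (TL.node (TL.leaf [nat_lit 1]) (TL.leaf [nat_lit 0, nat_lit 1])) (TL.leaf [nat_lit 1]))) (TL.node (TL.node (TL.node (TL.leaf []) (TL.leaf [])) (TL.node (TL.leaf []) (TL.leaf []))) (TL.node (TL.node (TL.leaf []) (TL.leaf [])) (TL.leaf [])))) (TL.node (TL.node (TL.node (TL.node (TL.leaf []) (TL.leaf [])) (TL.node (TL.leaf []) (TL.leaf []))) (TL.node (TL.node (TL.leaf []) (TL.leaf [])) (TL.leaf []))) (TL.node (TL.node (TL.node (TL.leaf []) (TL.leaf [])) (TL.node (TL.leaf []) (TL.leaf []))) (TL.node (TL.node (TL.leaf []) (TL.leaf [])) (TL.leaf []))))) (TL.node (TL.node (TL.node (TL.node (TL.node (TL.leaf []) (TL.leaf [])) (TL.node (TL.leaf []) (TL.leaf []))) (TL.node (TL.node (TL.leaf []) (TL.leaf [])) (TL.leaf []))) (TL.node (TL.node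 (TL.node (TL.leaf []) (TL.leaf [])) (TL.node (TL.leaf []) (TL.leaf []))) (TL.node (TL.node (TL.leaf []) (TL.leaf [])) (TL.leaf [])))) (TL.node (TL.node (TL.node (TL.node (TL.leaf []) (TL.leaf [])) (TL.node (TL.leaf []) (TL.leaf []))) (TL.node (TL.node (TL.leaf []) (TL.leaf [])) (TL.leaf []))) (TL.node (TL.node (TL.node (TL.leaf []) (TL.leaf [])) (TL.node (TL.leaf []) (TL.leaf []))) (TL.node (TL.node (TL.leaf []) (TL.leaf [])) (TL.leaf []))))))
def U_t5 : TL := (TL.node (TL.node (TL.node (TL.node (TL.node (TL.node (TL.leaf [nat_lit 3]) (TL.leaf [nat_lit 3])) (TL.node (TL.leaf [nat_lit 0, nat_lit 3]) (TL.leaf [nat_lit 0, nat_lit 3]))) (TL.node (TL.node (TL.leaf [nat_lit 3]) (TL.leaf [nat_lit 0, nat_lit 1, nat_lit 2, nat_lit 3])) (TL.leaf [nat_lit 3]))) (TL.node (TL.node (TL.node (TL.leaf []) (TL.leaf [])) (TL.node (TL.leaf []) (TL.leaf []))) (TL.node (TL.node (TL.leaf []) (TL.leaf [])) (TL.leaf [])))) (TL.node (TL.node (TL.node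 (TL.node (TL.leaf []) (TL.leaf [])) (TL.node (TL.leaf []) (TL.leaf []))) (TL.node (TL.node (TL.leaf []) (TL.leaf [])) (TL.leaf []))) (TL.node (TL.node (TL.node (TL.leaf []) (TL.leaf [])) (TL.node (TL.leaf []) (TL.leaf []))) (TL.node (TL.node (TL.leaf []) (TL.leaf [])) (TL.leaf []))))) (TL.node (TL.node (TL.node (TL.node (TL.node (TL.leaf []) (TL.leaf [])) (TL.node (TL.leaf []) (TL.leaf []))) (TL.node (TL.node (TL.leaf []) (TL.leaf [])) (TL.leaf []))) (TL.node (TL.node (TL.node (TL.leaf []) (TL.leaf [])) (TL.node (TL.leaf []) (TL.leaf []))) (TL.node (TL.node (TL.leaf []) (TL.leaf [])) (TL.leaf [])))) (TL.node (TL.node (TL.node (TL.node (TL.leaf []) (TL.leaf [])) (TL.node (TL.leaf []) (TL.leaf []))) (TL.node (TL.node (TL.leaf []) (TL.leaf [])) (TL.leaf []))) (TL.node (TL.node (TL.node (TL.leaf []) (TL.leaf [])) (TL.node (TL.leaf []) (TL.leaf []))) (TL.node (TL.node (TL.leaf []) (TL.leaf [])) (TL.leaf []))))))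
def U_t6 : TL := (TL.node U_t4 U_t5)
def U_t : TL := (TL.node U_t3 U_t6)
noncomputable def U (i : ℕ) : List ℕ := TL.get U_t i
noncomputable def f1 : ℕ → ℕ := mvE Q (nat_lit 24) (nat_lit 2) (nat_lit 6) Zm
theorem b0 : Nat.beq (rng f1 (nat_lit 0) (nat_lit 64)) (nat_lit 0) = true := by decide +kernel
theorem h1 : ∀ i < 64, f1 i = 0 := by
  have h := zero_lt_zero f1
  have h := zero_lt_add (a := (nat_lit 0)) (n := (nat_lit 64)) (b := (nat_lit 64)) h b0 rfl
  exact h
theorem sy : Sy q 2 6 R := md.sy' (by decide) (by decide) (upTo_beq (by decide +kernel)) (pr := 64) rfl h1 (by rw [card12]; decide)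
noncomputable def f2 : ℕ → ℕ := ncE Q (nat_lit 24) (nat_lit 5) (nat_lit 6) (nat_lit 32) Zc
theorem c0 : Nat.beq (rng f2 (nat_lit 0) (nat_lit 64)) (nat_lit 0) = true := by decide +kernel
theorem h2 : ∀ i < 64, f2 i = 0 := by
  have h := zero_lt_zero f2
  have h := zero_lt_add (a := (nat_lit 0)) (n := (nat_lit 64)) (b := (nat_lit 64)) h c0 rfl
  exact h
def sg (i : ℕ) : ℕ := Nat.land (Nat.shiftRight (nat_lit 43399) (Nat.mul (nat_lit 4) i)) (nat_lit 15)
def si (i : ℕ) : ℕ := Nat.land (Nat.shiftRight (nat_lit 39544) (Nat.mul (nat_lit 4) i)) (nat_lit 15)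
def V_t : TN := (TN.leaf (nat_lit 0xac40610600063064a603ae506b8701b05044c601e440314519ea701b85044052ee6700783047a506be5186c606c0501ec6000000652507b26019850012302ea500b4412fa71852706c65013850310506ee600c0446c4701b44006c3191a713306519a8001a2006e311b0601be411b86054a5466670606500ca4104470180411986032e5041062ed070150501ba503045054054b327000a214ea7066e600ae402ba5044e603525519881aee70614604c4504645c4c680030301e6403325146670106666ec803ea50c04601ee6013e500f8400e04186e61144600545001e212e4601ea404f85119261186610527014460b8060530601b24015250146601986054451190601ee418447113e601b460510602e451306602e6501aa601124001a411346019a5002a30efa6011050194506b46044463bec701e4604fa60118404b8604d45000c2041e60bb260bb06039850baa6019e606e660044501ae60664603e65105460052404e050050404ca50010301ac503b45061a5114e700182044c5006e50ecc607b0700c6412c6700e4407be6004a30186513067014e600544001e33130713946012c501b0401106054c501004007a504b850044306505006631180602e050112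601e04044e50ed26064c6019e43ae4700e6407b46066c504be50c54600042013840014304c06065260618507be70032302ec50798600463194c6012e50fac60ece60792711306014a511ea6053a600b8404c0501145051270130400404046e5004e300d44013a50018401b25044a500525119462e4c7051460b8460106403e4503be50ee6605346052e6019e506be60c60601ac60186401ae504ea50446600183006a401ba6004c304146000e2046c5119e602d0501aa40b92604e450600600104053e6015240ee46003a3019050040504126067a601e6612f8701044032a500043051a6007a313e6604505007840aee607ba603ac51acc64f988041a50eb8601ea604c65031e50060404665013450c4060014212e6619ba601924006a303b8544ce7199470c0660cc460100614607006c50ec0606ac60064301845007a404b45066e50e0460bb860000103ba500665130470006200c4404545194e63b98706b8502ee515306064c511047033e503305047850194412ee60f9060606603ec501e6501925006640044403b2501aa5001e4007850512601504012a500505052a63b907193060c00604605054c60318514c670014419b2603ee504ba50180504047079e7065461946604526002c300603051070d4e6531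a812d0606786011041312601e050410513e6704f8606fa50444506b2500ea407b271ae48039e501ec512d46019a4003e3011a401045001220106511be600343013e411e06012e419b460038303805012c404b0601ee5011251ae680d4c606ba6013440002111b46064a503005006e412cc60c4e601b8466ee706466054a6044670bbe6000610414501ac404ce5039250130544ac71ecc704be6014c50010204045004e40146503b05001a301ea5031250eea601ae4011e404d0500cc40440605186014e519ba7112a607ac60c4c6006c40004100ba400ee4041e5044471b0660644600543019840132412ce60c7a60c7861b18600403006a50bb464bba700ec4002e312ec6113a700fa406046000020c506061e50b40619347040670064411326013a40140604b2504cc5004c400ce414d4701445004a40114403845))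
noncomputable def V (i : ℕ) : ℕ := get9 V_t (nat_lit 20) (nat_lit 0xfffff) i
noncomputable def f3 : ℕ → ℕ := clE Q sg si (nat_lit 24) (nat_lit 0) [nat_lit 17, nat_lit 1, nat_lit 16, nat_lit 12, nat_lit 0] V
theorem d0 : Nat.beq (rng f3 (nat_lit 0) (nat_lit 494)) (nat_lit 0) = true := by decide +kernel
theorem h3 : ∀ i < 494, f3 i = 0 := by
  have h := zero_lt_zero f3
  have h := zero_lt_add (a := (nat_lit 0)) (n := (nat_lit 494)) (b := (nat_lit 494)) h d0 rfl
  exact h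
theorem loc : Loc q 5 6 7 R := md.loc sy (by decide) (ps := 32) (pr := 64) ⟨rfl, rfl⟩ h2 (U := U)
  (upTo_beq (by decide +kernel)) (l := [([nat_lit 5, nat_lit 6], (nat_lit 3))]) (by decide +kernel) ⟨by decide, by decide⟩
  (md.cls (by decide +kernel) h3 fun _ _ => trivial) (by rw [card12]; decide)
def cH_t : TL := (TL.node (TL.leaf []) (TL.leaf [nat_lit 6, nat_lit 1, nat_lit 4]))
noncomputable def cH (i : ℕ) : List ℕ := TL.get cH_t i
def cI_t : TL := (TL.node (TL.leaf []) (TL.leaf [nat_lit 4, nat_lit 1, nat_lit 1, nat_lit 1, nat_lit 6]))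
noncomputable def cI (i : ℕ) : List ℕ := TL.get cI_t i
def cW_t : TL := (TL.node (TL.leaf []) (TL.leaf [nat_lit 2, nat_lit 5]))
noncomputable def cW (i : ℕ) : List ℕ := TL.get cW_t i
def cE (i : ℕ) : ℕ := Nat.land (Nat.shiftRight (nat_lit 2) (Nat.mul (nat_lit 1) i)) (nat_lit 1)
theorem core : Core q 5 6 7 := md.core (k := 1) loc (by decide) (H := cH) (H' := cI) (W := cW) (E := cE) (pk := 2) rfl
  (upTo_beq (by decide +kernel))

end Cfsg.Agent.Ct.M12o
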