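import Cfsg.Agent.Lib.Cert.M12o.L
import Cfsg.Agent.Lib.Cert.Out2

set_option autoImplicit false
set_option maxRecDepth 100000

namespace Cfsg.Agent.Ct.M12o

open Cfsg.Agent.PC

open Cfsg.Agent.Fi Cfsg.Agent.Ct
def Ve_t : TL := (TL.node (TL.node (TL.node (TL.leaf [nat_lit 13, nat_lit 0, nat_lit 12, nat_lit 0, nat_lit 12, nat_lit 13, nat_lit 12, nat_lit 0, nat_lit 13, nat_lit 12, nat_lit 13, nat_lit 12, nat_lit 13, nat_lit 0, nat_lit 12, nat_lit 13, nat_lit 12, nat_lit 13, nat_lit 12, nat_lit 0, nat_lit 13, nat_lit 12, nat_lit 0, nat_lit 13, nat_lit 12, nat_lit 13, nat_lit 12, nat_lit 0, nat_lit 13, nat_lit 12, nat_lit 0, nat_lit 12]) (TL.leaf [nat_lit 13, nat_lit 0, nat_lit 12, nat_lit 0, nat_lit 12, nat_lit 0, nat_lit 13, nat_lit 0, nat_lit 13, nat_lit 12, nat_lit 13, nat_lit 12, nat_lit 13, nat_lit 12, nat_lit 13, nat_lit 0, nat_lit 12, nat_lit 13, nat_lit 12, nat_lit 13, nat_lit 0, nat_lit 13, nat_lit 0, nat_lit 12, nat_lit 0])) (TL.leaf [nat_lit 13, nat_lit 0, nat_lit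 12, nat_lit 0, nat_lit 12, nat_lit 13, nat_lit 12, nat_lit 0, nat_lit 13, nat_lit 12, nat_lit 13, nat_lit 12, nat_lit 13, nat_lit 0, nat_lit 12, nat_lit 13, nat_lit 12, nat_lit 13, nat_lit 12, nat_lit 13])) (TL.node (TL.node (TL.leaf [nat_lit 12, nat_lit 13, nat_lit 12, nat_lit 13, nat_lit 12, nat_lit 13, nat_lit 0, nat_lit 13, nat_lit 12, nat_lit 13, nat_lit 12, nat_lit 0, nat_lit 12, nat_lit 13, nat_lit 0, nat_lit 13, nat_lit 12, nat_lit 0, nat_lit 13, nat_lit 12]) (TL.leaf [nat_lit 12, nat_lit 13, nat_lit 0, nat_lit 12, nat_lit 0, nat_lit 12, nat_lit 13, nat_lit 12, nat_lit 13, nat_lit 0, nat_lit 13, nat_lit 12, nat_lit 13, nat_lit 12, nat_lit 0, nat_lit 13, nat_lit 12, nat_lit 13, nat_lit 12, nat_lit 13, nat_lit 0, nat_lit 12, nat_lit 13, nat_lit 12, nat_lit 13, nat_lit 0])) (TL.leaf [nat_lit 12, nat_lit 0, nat_lit 13, nat_lit 12, nat_lit 13, nat_lit 12, nat_lit 0, nat_lit 13, nat_lit 0, nat_lit 12, nat_lit 13, nat_lit 12, nat_lit 13, nat_lit 12, nat_lit 13, nat_lit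 0, nat_lit 13, nat_lit 12, nat_lit 13, nat_lit 12, nat_lit 13, nat_lit 12, nat_lit 0, nat_lit 13])))
noncomputable def Ve (i : ℕ) : List ℕ := TL.get Ve_t i
theorem cC : 192 ∣ Nat.card (Subgroup.centralizer {q 0}) := loc.cen ▸ md.dvdC sy (by decide) (l := [([nat_lit 5, nat_lit 6], (nat_lit 3))]) (by decide +kernel) ⟨by decide, by decide⟩
theorem au : Au (q 0) := loc.autz
theorem cs : clS Q B sg si (nat_lit 24) (nat_lit 14) (nat_lit 0) [nat_lit 17, nat_lit 1, nat_lit 16, nat_lit 12, nat_lit 0] = 0 := by decide +kernel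
theorem cl : Cl q sg 0 V 495 := md.cl cs h3 cC (by rw [card12]; decide)
theorem o2 : CardLE (Fx q [nat_lit 13, nat_lit 12, nat_lit 0]) 1 := (md12).fin (gen_sub_top Spor.gen12) md Ve (by decide +kernel)
def W1_t : TL := (TL.node (TL.node (TL.leaf [nat_lit 14, nat_lit 0, nat_lit 12, nat_lit 0, nat_lit 14, nat_lit 0, nat_lit 12, nat_lit 0, nat_lit 14, nat_lit 0, nat_lit 12, nat_lit 0]) (TL.leaf [nat_lit 14, nat_lit 12, nat_lit 0, nat_lit 12, nat_lit 14, nat_lit 12, nat_lit 0, nat_lit 12, nat_lit 14, nat_lit 12, nat_lit 0, nat_lit 12, nat_lit 14, nat_lit 12, nat_lit 0, nat_lit 12, nat_lit 14, nat_lit 12, nat_lit 0, nat_lit 12])) (TL.leaf [nat_lit 14, nat_lit 0, nat_lit 14, nat_lit 0, nat_lit 14, nat_lit 0, nat_lit 14, nat_lit 0]))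
noncomputable def W1 (i : ℕ) : List ℕ := TL.get W1_t i
def Z1_t : TN := (TN.leaf (nat_lit 0x120640c8190320640c81903206408811032044088190320640c819032044088178320640c8110320640c81905206408819032064088190320640c829032064108190520640c819032064148190320641481903206210819032064148190320640c8190320640c8190620640c8190220640c8190420640c819052064148190520a40c8190320640c811042044088190320e40c8190320640c819052064088190320640bc290220640c8190320640c81903206410819022064148190320640c8190200240c82903206410811072064088190320640c8110520640c8190420640c8190420640c81903206408819072064148190320a40c81903206408819032064088190320640c8190320640881103205a0c8190320640c8190220440c8190320440c8190320640c8190320a414819042064088190720640c829042064088190320640c8190320640c8190320a40c829022064080090320640c8190320640c8190320641c8190320440c8190520a4088190320440c819022064088110320640c8190320440c8190220440c8178320640c8190320640c8190320640c8110320a40c81903206408819052040048190320640c8190320440c81903208408009032064148190320640c8190320440c8190620640c81903205e148110320a4148190320e40c8190320640c829052064088190320640c8390320640c8190320640c8190320640c829032064088190220c40c8110320e40c8190320640c8190320640c8190220640c8190720640c8190320640c8290320640c8290320640c8210320a40c8190520640c8190320640c8110320640c8288520e40c8190320640c8210320640c8190320e40c8190520a40c8110320640c8190320640c8390320a40c8110320640c829032064148190320640c8110320640c8390520640c8190320640c8190320a41c8290320440c81))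
noncomputable def Z1 (i : ℕ) : ℕ := get9 Z1_t (nat_lit 11) (nat_lit 2047) i
noncomputable def u1 : ℕ → ℕ := lcE Q B (nat_lit 24) (nat_lit 14) sg si (nat_lit 0) V W1 (nat_lit 3) (nat_lit 0) Z1
def W0_t1 : TL := (TL.node (TL.node (TL.node (TL.node (TL.node (TL.node (TL.leaf [nat_lit 0, nat_lit 14, nat_lit 0, nat_lit 14, nat_lit 0, nat_lit 14, nat_lit 0, nat_lit 14]) (TL.leaf [nat_lit 0, nat_lit 14, nat_lit 0, nat_lit 14])) (TL.leaf [])) (TL.node (TL.leaf []) (TL.leaf []))) (TL.node (TL.node (TL.leaf []) (TL.leaf [])) (TL.node (TL.leaf []) (TL.leaf [])))) (TL.node (TL.node (TL.node (TL.leaf []) (TL.leaf [])) (TL.node (TL.leaf []) (TL.leaf []))) (TL.node (TL.node (TL.leaf []) (TL.leaf [])) (TL.node (TL.leaf []) (TL.leaf []))))) (TL.node (TL.node (TL.node (TL.node (TL.leaf []) (TL.leaf [])) (TL.node (TL.leaf []) (TL.leaf []))) (TL.node (TL.node (TL.leaf []) (TL.leaf [])) (TL.node (TL.leaf []) (TL.leaf [])))) (TL.node (TL.node (TL.node (TL.leaf []) (TL.leaf [])) (TL.node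 (TL.leaf []) (TL.leaf []))) (TL.node (TL.node (TL.leaf []) (TL.leaf [])) (TL.node (TL.leaf []) (TL.leaf []))))))
def W0_t2 : TL := (TL.node (TL.node (TL.node (TL.node (TL.node (TL.leaf []) (TL.leaf [])) (TL.node (TL.leaf []) (TL.leaf []))) (TL.node (TL.node (TL.leaf []) (TL.leaf [])) (TL.node (TL.leaf []) (TL.leaf [])))) (TL.node (TL.node (TL.node (TL.leaf []) (TL.leaf [])) (TL.node (TL.leaf []) (TL.leaf []))) (TL.node (TL.node (TL.leaf []) (TL.leaf [])) (TL.node (TL.leaf []) (TL.leaf []))))) (TL.node (TL.node (TL.node (TL.node (TL.leaf []) (TL.leaf [])) (TL.node (TL.leaf []) (TL.leaf []))) (TL.node (TL.node (TL.leaf []) (TL.leaf [])) (TL.node (TL.leaf []) (TL.leaf [])))) (TL.node (TL.node (TL.node (TL.leaf []) (TL.leaf [])) (TL.node (TL.leaf []) (TL.leaf []))) (TL.node (TL.node (TL.leaf []) (TL.leaf [])) (TL.node (TL.leaf []) (TL.leaf []))))))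
def W0_t : TL := (TL.node W0_t1 W0_t2)
noncomputable def W0 (i : ℕ) : List ℕ := TL.get W0_t i
def Z0_t : TN := (TN.leaf (nat_lit 0x120400001001204000010012040080090200000c8100320400000002004008000020024080100000240c819032064080090200240c8190200240c8190320640c819032040048100000240c8190320640c81902f0620c8190320640bc190320640c81903205e080000200240881782004004819032040048190320640c8190320640c8190320400001102f0640c81902002408000032040048190320620c8178310640bc190320640c81902002408009032064080090320640c8100120640c8190200240c8190320640c8100120640bc110200240bc110320640c8190200640c8190310640c410012064080000320640c8190320640c8100000400c8190220620c81902f04004819020024080010200240c81902f05e0c8190320640c8190320640c8190320640c8190320640c8190320640c8100120400c81903204004819020040048190320640c8100120640c819032064080090320640c8190200240c8190320400481902002408009032064080090320640c8190200240c8190320400c8190320640c819032064080090320640c8190200000c819032040048190320640c819032040000090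32040048190200240c8190320640c819032064080090200240c819032064080010320640c8100120640800902001e0c819032064080090200240c8190320400481903205e0c8190320640800003205e0c8190320640c8190320640c81903204004810000024080000000440bc19032040048190320640c8190320400481001204004819032040048100000240c8190320400481903206408009032064080090320400c8190320640c8188200220c8190200000c81001204008009020040000190320640c8100320640c819032064080090320640c810012040048100120640c8190320640c81903206408009032064080190320640c819032040048100120400481))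
noncomputable def Z0 (i : ℕ) : ℕ := get9 Z0_t (nat_lit 11) (nat_lit 2047) i
noncomputable def u0 : ℕ → ℕ := lcE Q B (nat_lit 24) (nat_lit 14) sg si (nat_lit 0) V W0 (nat_lit 1) (nat_lit 1) Z0
theorem v1x0 : Nat.beq (rng u1 (nat_lit 0) (nat_lit 495)) (nat_lit 0) = true := by decide +kernel
theorem v0x0 : Nat.beq (rng u0 (nat_lit 0) (nat_lit 495)) (nat_lit 0) = true := by decide +kernel
theorem k1 : ∀ i < 495, u1 i = 0 := by
  have h := zero_lt_zero u1
  have h := zero_lt_add (a := (nat_lit 0)) (n := (nat_lit 495)) (b := (nat_lit 495)) h v1x0 rfl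
  exact h
theorem o1 : CardLE (Fx q [nat_lit 12, nat_lit 0]) 4 := md.lvc cs cl au (aw := [nat_lit 7, nat_lit 7, nat_lit 10, nat_lit 8, nat_lit 10, nat_lit 8]) (y := 13) (by decide +kernel) k1 (a := 4) (by decide +kernel) o2
theorem k0 : ∀ i < 495, u0 i = 0 := by
  have h := zero_lt_zero u0
  have h := zero_lt_add (a := (nat_lit 0)) (n := (nat_lit 495)) (b := (nat_lit 495)) h v0x0 rfl
  exact h
theorem o0 : CardLE (Fx q [nat_lit 0]) 384 := md.lvc cs cl au (aw := [nat_lit 8]) (y := 12) (by decide +kernel) k0 (a := 96) (by decide +kernel) o1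
theorem aut : Nat.card (MulAut (G12)) ≤ 495 * 384 := cl.top au o0
def pi_t : TN := (TN.leaf (nat_lit 0x4a0026164b1867669af58508e7c547))
noncomputable def pi (i : ℕ) : ℕ := get9 pi_t (nat_lit 5) (nat_lit 31) i
def pj_t : TN := (TN.leaf (nat_lit 0x4b1066c44719173806f602a457d1d5))
noncomputable def pj (i : ℕ) : ℕ := get9 pj_t (nat_lit 5) (nat_lit 31) i
def Wo_t : TL := (TL.node (TL.node (TL.node (TL.leaf [nat_lit 3, nat_lit 3, nat_lit 3, nat_lit 5, nat_lit 4, nat_lit 4, nat_lit 4, nat_lit 4, nat_lit 4, nat_lit 4, nat_lit 4, nat_lit 4, nat_lit 4, nat_lit 4, nat_lit 3, nat_lit 0, nat_lit 0, nat_lit 0, nat_lit 2, nat_lit 2, nat_lit 2, nat_lit 5, nat_lit 5, nat_lit 5, nat_lit 5, nat_lit 5, nat_lit 5, nat_lit 5, nat_lit 2, nat_lit 2, nat_lit 2, nat_lit 0, nat_lit 5, nat_lit 5, nat_lit 5, nat_lit 5, nat_lit 5, nat_lit 5, nat_lit 5]) (TL.leaf [nat_lit 4, nat_lit 5, nat_lit 5, nat_lit 5, nat_lit 5, nat_lit 5, nat_lit 5, nat_lit 5, nat_lit 3, nat_lit 5, nat_lit 5, nat_lit 5, nat_lit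 5, nat_lit 5, nat_lit 5, nat_lit 5, nat_lit 2, nat_lit 2, nat_lit 2, nat_lit 4, nat_lit 3, nat_lit 3])) (TL.leaf [nat_lit 1, nat_lit 1, nat_lit 1, nat_lit 0, nat_lit 0, nat_lit 0, nat_lit 3, nat_lit 5, nat_lit 1, nat_lit 4, nat_lit 1])) (TL.node (TL.node (TL.leaf [nat_lit 5, nat_lit 5, nat_lit 5, nat_lit 5, nat_lit 5, nat_lit 5, nat_lit 5, nat_lit 2, nat_lit 2, nat_lit 2, nat_lit 0, nat_lit 2, nat_lit 2, nat_lit 2, nat_lit 5, nat_lit 5, nat_lit 5, nat_lit 5, nat_lit 5, nat_lit 5, nat_lit 5, nat_lit 4, nat_lit 0, nat_lit 0]) (TL.leaf [nat_lit 2, nat_lit 1, nat_lit 3, nat_lit 3, nat_lit 3, nat_lit 4, nat_lit 2, nat_lit 5, nat_lit 5, nat_lit 5, nat_lit 5, nat_lit 5, nat_lit 5, nat_lit 5, nat_lit 1, nat_lit 1, nat_lit 1, nat_lit 3])) (TL.leaf [nat_lit 2, nat_lit 1, nat_lit 3, nat_lit 3, nat_lit 3, nat_lit 4, nat_lit 2, nat_lit 2, nat_lit 2, nat_lit 4, nat_lit 1, nat_lit 1, nat_lit 1, nat_lit 0, nat_lit 0, nat_lit 0, nat_lit 5, nat_lit 5, nat_lit 5, nat_lit 5, nat_lit 5,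 nat_lit 5, nat_lit 5, nat_lit 0, nat_lit 0, nat_lit 0])))
noncomputable def Wo (i : ℕ) : List ℕ := TL.get Wo_t i
noncomputable def g1 : ℕ → ℕ := nzE (Spor.TP Spor.c12) (nat_lit 24) (nat_lit 6) pi pj Wo
theorem ge0 : Nat.beq (rng g1 (nat_lit 0) (nat_lit 24)) (nat_lit 0) = true := by decide +kernel
theorem l1 : ∀ i < 24, g1 i = 0 := by
  have h := zero_lt_zero g1
  have h := zero_lt_add (a := (nat_lit 0)) (n := (nat_lit 24)) (b := (nat_lit 24)) h ge0 rfl
  exact h
noncomputable def g2 : ℕ → ℕ := ufE (Spor.TP Spor.c12) [[nat_lit 5, nat_lit 5, nat_lit 5, nat_lit 5, nat_lit 5, nat_lit 5, nat_lit 5, nat_lit 2, nat_lit 2, nat_lit 2, nat_lit 1, nat_lit 3, nat_lit 1, nat_lit 2, nat_lit 3, nat_lit 2, nat_lit 2, nat_lit 2], [nat_lit 1, nat_lit 3, nat_lit 4, nat_lit 5, nat_lit 5, nat_lit 5, nat_lit 5, nat_lit 5, nat_lit 5, nat_lit 5, nat_lit 1, nat_lit 1, nat_lit 1, nat_lit 5, nat_lit 0, nat_lit 4, nat_lit 4, nat_lit 4, nat_lit 4, nat_lit 4, nat_lit 4, nat_lit 4, nat_lit 4, nat_lit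 4, nat_lit 4]] (nat_lit 17)
theorem gf0 : Nat.beq (rng g2 (nat_lit 0) (nat_lit 24)) (nat_lit 0) = true := by decide +kernel
theorem l2 : ∀ i < 24, g2 i = 0 := by
  have h := zero_lt_zero g2
  have h := zero_lt_add (a := (nat_lit 0)) (n := (nat_lit 24)) (b := (nat_lit 24)) h gf0 rfl
  exact h
theorem out : Nat.card (Cfsg.Out (G12)) = 2 := by
  obtain ⟨α, h⟩ := (md12).outer (gen_sub_top Spor.gen12) (by decide +kernel) l1 (x := 17) (by decide) (by decide +kernel) l2
  exact out_two (ctr12) aut (by rw [card12]; decide) ((md12).outer2 (gen_sub_top Spor.gen12) h (O := [nat_lit 17, nat_lit 5, nat_lit 14, nat_lit 19, nat_lit 20, nat_lit 22, nat_lit 23, nat_lit 7, nat_lit 11, nat_lit 21, nat_lit 10, nat_lit 15]) (by decide +kernel) (by decide +kernel))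

end Cfsg.Agent.Ct.M12o
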